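import Cfsg.Agent.Lib.LocalEven.SylowIso.Generic
import Mathlib.GroupTheory.SpecificGroups.Dihedral
import Mathlib.LinearAlgebra.Matrix.GeneralLinearGroup.Defs
import Mathlib.Data.ZMod.Basic

/-!
The wreath product of the dihedral group of order 8 with a group of order 2, inside the symmetric
group of degree 8 and inside the orthogonal group of minus type in dimension 6 over two elements.
-/

set_option autoImplicit false

namespace CfsgLib.LocalEven.SylowIso

open DihedralGroup Matrix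

/-- The dihedral group of order 8. -/
abbrev Dh := DihedralGroup 4

/-- The exchange of the two factors. -/
def dhAut : MulAut (Dh × Dh) := MulEquiv.prodComm

theorem dhAut_sq : dhAut * dhAut = 1 := MulEquiv.ext fun _ => rfl

/-- `D₈ wr 2`. -/
abbrev DW := InvExt (Dh × Dh) dhAut dhAut_sq

/-- The action on four points. -/
def dhPtFun : Dh → ZMod 4 → ZMod 4
  | .r i, x => x + i
  | .sr i, x => -(x + i)

/-- The action on eight points. -/
def dhPair (p : Dh × Dh) : ZMod 4 × ZMod 2 → ZMod 4 × ZMod 2 :=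
  fun z => (if z.2 = 0 then dhPtFun p.1 z.1 else dhPtFun p.2 z.1, z.2)

theorem dhPtFun_mul : ∀ (d e : Dh) (x : ZMod 4), dhPtFun (d * e) x = dhPtFun d (dhPtFun e x) := by
  decide +kernel

theorem dhPtFun_one : ∀ x : ZMod 4, dhPtFun 1 x = x := by decide +kernel

theorem dhPair_mul (p q : Dh × Dh) (z : ZMod 4 × ZMod 2) :
    dhPair (p * q) z = dhPair p (dhPair q z) := by
  simp only [dhPair]
  split_ifs <;> simp [dhPtFun_mul]

theorem dhPair_one (z : ZMod 4 × ZMod 2) : dhPair 1 z = z := by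
  simp [dhPair, dhPtFun_one]

/-- `D₈ × D₈` as permutations. -/
def dhPerm : Dh × Dh →* Equiv.Perm (ZMod 4 × ZMod 2) where
  toFun p :=
    { toFun := dhPair p
      invFun := dhPair p⁻¹
      left_inv := fun z => by rw [← dhPair_mul, inv_mul_cancel, dhPair_one]
      right_inv := fun z => by rw [← dhPair_mul, mul_inv_cancel, dhPair_one] }
  map_one' := Equiv.ext dhPair_one
  map_mul' p q := Equiv.ext (dhPair_mul p q)

/-- The exchange of the two quadruples. -/
def ptSwap : Equiv.Perm (ZMod 4 × ZMod 2) where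
  toFun z := (z.1, z.2 + 1)
  invFun z := (z.1, z.2 + 1)
  left_inv := by decide
  right_inv := by decide

theorem ptSwap_sq : ptSwap * ptSwap = 1 := by decide +kernel

theorem ptSwap_conj : ∀ p : Dh × Dh, dhPerm (dhAut p) = ptSwap * dhPerm p * ptSwap := by
  decide +kernel

/-- The action on eight points. -/
def dwPerm : DW →* Equiv.Perm (ZMod 4 × ZMod 2) :=
  invLift dhAut dhAut_sq dhPerm ptSwap ptSwap_sq ptSwap_conj

theorem dwPerm_inj_aux : ∀ (p : Dh × Dh) (c : Multiplicative (ZMod 2)),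
    dhPerm p * (if c = 1 then 1 else ptSwap) = 1 → p = 1 ∧ c = 1 := by
  decide +kernel

theorem dwPerm_injective : Function.Injective dwPerm := by
  rw [← MonoidHom.ker_eq_bot_iff, Subgroup.eq_bot_iff_forall]
  intro w hw
  obtain ⟨h1, h2⟩ := dwPerm_inj_aux w.left w.right (MonoidHom.mem_ker.1 hw)
  exact SemidirectProduct.ext h1 h2

theorem card_dw : Nat.card DW = 128 := by
  rw [SemidirectProduct.card, Nat.card_prod]
  simp [Nat.card_eq_fintype_card, DihedralGroup.card]

/-- Matrices over two elements acting on six coordinates. -/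
abbrev Mat6 := Matrix (Fin 6) (Fin 6) (ZMod 2)

/-- A reflection in the first factor. -/
def matS : Mat6 :=
  !![0, 0, 1, 0, 0, 0; 0, 1, 0, 0, 0, 0; 1, 0, 0, 0, 0, 0; 0, 0, 0, 1, 0, 0; 0, 0, 0, 0, 1, 0; 0, 0, 0, 0, 0, 1]

/-- A rotation in the first factor. -/
def matR : Mat6 :=
  !![0, 0, 1, 0, 0, 0; 0, 1, 1, 0, 0, 0; 1, 0, 0, 1, 0, 0; 0, 0, 0, 1, 0, 0; 0, 0, 0, 0, 1, 0; 0, 0, 0, 0, 0, 1]

/-- The exchange of the two factors. -/
def matSw : Mat6 :=
  !![1, 0, 1, 1, 1, 0; 1, 1, 1, 0, 0, 1; 1, 0, 1, 1, 1, 1; 0, 0, 0, 1, 0, 0; 1, 0, 0, 1, 0, 1; 1, 0, 1, 0, 0, 0]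

/-- The first factor. -/
def dhMat : Dh → Mat6
  | .r i => matR ^ i.val
  | .sr i => matS * matR ^ i.val

/-- The quadratic form in coordinates. -/
def qSix (v : Fin 6 → ZMod 2) : ZMod 2 :=
  v 0 * v 2 + v 1 * v 3 + (v 4 ^ 2 + v 4 * v 5 + v 5 ^ 2)

theorem dhMat_mul : ∀ d e : Dh, dhMat (d * e) = dhMat d * dhMat e := by decide +kernel

theorem dhMat_one : dhMat 1 = 1 := by decide +kernel

theorem matSw_sq : matSw * matSw = 1 := by decide +kernel

theorem dhMat_comm : ∀ d e : Dh,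
    dhMat d * (matSw * dhMat e * matSw) = matSw * dhMat e * matSw * dhMat d := by decide +kernel

theorem qSix_r : ∀ v : Fin 6 → ZMod 2, qSix (matR *ᵥ v) = qSix v := by decide +kernel

theorem qSix_s : ∀ v : Fin 6 → ZMod 2, qSix (matS *ᵥ v) = qSix v := by decide +kernel

theorem qSix_sw : ∀ v : Fin 6 → ZMod 2, qSix (matSw *ᵥ v) = qSix v := by decide +kernel

theorem qSix_pow (n : ℕ) (v : Fin 6 → ZMod 2) : qSix ((matR ^ n) *ᵥ v) = qSix v := by
  induction n generalizing v with
  | zero => simp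
  | succ n ih => rw [pow_succ, ← Matrix.mulVec_mulVec, ih, qSix_r]

theorem qSix_dhMat : ∀ (d : Dh) (v : Fin 6 → ZMod 2), qSix (dhMat d *ᵥ v) = qSix v
  | .r i, v => qSix_pow i.val v
  | .sr i, v => by
    show qSix ((matS * matR ^ i.val) *ᵥ v) = qSix v
    rw [← Matrix.mulVec_mulVec, qSix_s, qSix_pow]

/-- `D₈ × D₈` as matrices. -/
def dhMat₂ (p : Dh × Dh) : Mat6 := dhMat p.1 * (matSw * dhMat p.2 * matSw)

/-- `D₈ × D₈` in the general linear group. -/
def dhGL : Dh × Dh →* GL (Fin 6) (ZMod 2) :=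
  MonoidHom.toHomUnits
    { toFun := dhMat₂
      map_one' := by simp [dhMat₂, dhMat_one, matSw_sq]
      map_mul' := fun p q => by
        simp only [dhMat₂, Prod.fst_mul, Prod.snd_mul, dhMat_mul]
        have h := dhMat_comm q.1 p.2
        calc dhMat p.1 * dhMat q.1 * (matSw * (dhMat p.2 * dhMat q.2) * matSw)
            = dhMat p.1 * (dhMat q.1 * (matSw * dhMat p.2 * matSw)) * (matSw * dhMat q.2 * matSw) := by
              simp only [mul_assoc, ← mul_assoc matSw matSw, matSw_sq, one_mul]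
          _ = _ := by rw [h]; simp only [mul_assoc] }

theorem dhGL_coe (p : Dh × Dh) : (dhGL p : Mat6) = dhMat₂ p := rfl

/-- The exchange in the general linear group. -/
def swGL : GL (Fin 6) (ZMod 2) := ⟨matSw, matSw, matSw_sq, matSw_sq⟩

theorem swGL_sq : swGL * swGL = 1 := Units.ext matSw_sq

theorem swGL_conj (p : Dh × Dh) : dhGL (dhAut p) = swGL * dhGL p * swGL := Units.ext (by
  show dhMat p.2 * (matSw * dhMat p.1 * matSw) = matSw * (dhMat p.1 * (matSw * dhMat p.2 * matSw)) * matSw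
  rw [dhMat_comm]
  simp only [mul_assoc, matSw_sq, mul_one, ← mul_assoc matSw matSw, one_mul])

/-- The six-dimensional representation. -/
def dwGL : DW →* GL (Fin 6) (ZMod 2) := invLift dhAut dhAut_sq dhGL swGL swGL_sq swGL_conj

theorem qSix_dhMat₂ (p : Dh × Dh) (v : Fin 6 → ZMod 2) : qSix (dhMat₂ p *ᵥ v) = qSix v := by
  rw [dhMat₂, ← Matrix.mulVec_mulVec, ← Matrix.mulVec_mulVec, ← Matrix.mulVec_mulVec, qSix_dhMat,
    qSix_sw, qSix_dhMat, qSix_sw]

theorem qSix_dwGL (w : DW) (v : Fin 6 → ZMod 2) : qSix ((dwGL w : Mat6) *ᵥ v) = qSix v := by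
  rw [dwGL, invLift_apply, Units.val_mul, dhGL_coe]
  split_ifs
  · simp [qSix_dhMat₂]
  · rw [← Matrix.mulVec_mulVec, qSix_dhMat₂]
    exact qSix_sw v

theorem dhMat₂_inj_aux : ∀ (p : Dh × Dh) (c : Multiplicative (ZMod 2)),
    dhMat p.1 * (matSw * dhMat p.2 * matSw) * (if c = 1 then 1 else matSw) = 1 → p = 1 ∧ c = 1 := by
  decide +kernel

theorem dwGL_injective : Function.Injective dwGL := by
  rw [← MonoidHom.ker_eq_bot_iff, Subgroup.eq_bot_iff_forall]
  intro w hw
  have h : (dwGL w : Mat6) = 1 := by rw [MonoidHom.mem_ker.1 hw]; rfl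
  rw [dwGL, invLift_apply, Units.val_mul, dhGL_coe] at h
  obtain ⟨h1, h2⟩ := dhMat₂_inj_aux w.left w.right (by
    refine Eq.trans ?_ h
    show dhMat₂ w.left * _ = _
    congr 1
    by_cases hc : w.right = 1
    · rw [if_pos hc, if_pos hc]; rfl
    · rw [if_neg hc, if_neg hc]; rfl)
  exact SemidirectProduct.ext h1 h2

end CfsgLib.LocalEven.SylowIso
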