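import Mathlib.GroupTheory.Sylow
import Mathlib.GroupTheory.SemidirectProduct

/-!
Recognising Sylow subgroups as quotients of an explicit 2-group.
-/

set_option autoImplicit false

namespace CfsgLib.LocalEven.SylowIso

theorem sylow_two_equiv_range {W G : Type*} [Group W] [Finite W] [Group G] [Finite G] (f : W →* G)
    {k o : ℕ} (hk : Nat.card ↥f.range = 2 ^ k) (ho : Odd o) (hG : Nat.card G = 2 ^ k * o)
    (P : Sylow 2 G) : Nonempty (↥(P : Subgroup G) ≃* ↥f.range) := by
  haveI : Fact (Nat.Prime 2) := ⟨Nat.prime_two⟩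
  obtain ⟨Q, hQ⟩ := (IsPGroup.of_card hk).exists_le_sylow
  obtain ⟨j, hj⟩ := IsPGroup.iff_card.1 Q.isPGroup'
  have hd : 2 ^ j ∣ 2 ^ k := by
    have h := Subgroup.card_subgroup_dvd_card (Q : Subgroup G)
    rw [hj, hG] at h
    exact (Nat.Coprime.pow_left j (Nat.coprime_two_left.2 ho)).dvd_of_dvd_mul_right h
  have e : (Q : Subgroup G) = f.range := (Subgroup.eq_of_le_of_card_ge hQ (by
    rw [hj, hk]; exact Nat.le_of_dvd (by positivity) hd)).symm
  exact ⟨(P.equiv Q).trans (MulEquiv.subgroupCongr e)⟩

theorem card_range {W G : Type*} [Group W] [Finite W] [Group G] (f : W →* G) :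
    Nat.card ↥f.range * Nat.card ↥f.ker = Nat.card W := by
  rw [← Nat.card_congr (QuotientGroup.quotientKerEquivRange f).toEquiv]
  exact (Subgroup.card_eq_card_quotient_mul_card_subgroup f.ker).symm

/-- Two homomorphisms with the same kernel have isomorphic ranges. -/
theorem range_equiv_of_ker_eq {W G G' : Type*} [Group W] [Group G] [Group G'] (f : W →* G)
    (f' : W →* G') (h : f.ker = f'.ker) : Nonempty (↥f.range ≃* ↥f'.range) :=
  ⟨((QuotientGroup.quotientKerEquivRange f).symm.trans (QuotientGroup.quotientMulEquivOfEq h)).trans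
    (QuotientGroup.quotientKerEquivRange f')⟩

/-- The homomorphism from the group of order two given by an element squaring to one. -/
def invHom {M : Type*} [Monoid M] (g : M) (hg : g * g = 1) : Multiplicative (ZMod 2) →* M where
  toFun c := if c = 1 then 1 else g
  map_one' := if_pos rfl
  map_mul' := by
    intro c d
    have hall : ∀ z : Multiplicative (ZMod 2), z = 1 ∨ z = Multiplicative.ofAdd 1 := by decide
    rcases hall c with rfl | rfl <;> rcases hall d with rfl | rfl <;>
      simp [hg, show (Multiplicative.ofAdd (1 : ZMod 2)) * Multiplicative.ofAdd 1 = 1 by decide,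
        show (Multiplicative.ofAdd (1 : ZMod 2)) ≠ 1 by decide]

theorem invHom_apply {M : Type*} [Monoid M] (g : M) (hg : g * g = 1) (c : Multiplicative (ZMod 2)) :
    invHom g hg c = if c = 1 then 1 else g := rfl

/-- The semidirect product of `N` by an involutory automorphism. -/
abbrev InvExt (N : Type*) [Group N] (σ : MulAut N) (hσ : σ * σ = 1) :=
  N ⋊[invHom σ hσ] Multiplicative (ZMod 2)

/-- Homomorphisms out of an extension by an involution. -/
def invLift {N G : Type*} [Group N] [Group G] (σ : MulAut N) (hσ : σ * σ = 1) (f : N →* G) (s : G)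
    (hs : s * s = 1) (h : ∀ n, f (σ n) = s * f n * s) : InvExt N σ hσ →* G :=
  SemidirectProduct.lift f (invHom s hs) (by
    intro c
    have hs' : s⁻¹ = s := inv_eq_of_mul_eq_one_right hs
    refine MonoidHom.ext fun n => ?_
    by_cases hc : c = 1
    · subst hc; simp
    · simp [invHom_apply, hc, hs', h, MulAut.conj_apply])

theorem invLift_apply {N G : Type*} [Group N] [Group G] (σ : MulAut N) (hσ : σ * σ = 1) (f : N →* G)
    (s : G) (hs : s * s = 1) (h : ∀ n, f (σ n) = s * f n * s) (w : InvExt N σ hσ) :
    invLift σ hσ f s hs h w = f w.left * (if w.right = 1 then 1 else s) := rfl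

end CfsgLib.LocalEven.SylowIso
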