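import Cfsg.Agent.Lib.LocalEven.SylowIso.Generic
import Mathlib.GroupTheory.SpecificGroups.Quaternion
import Mathlib.GroupTheory.SpecificGroups.Alternating
import Mathlib.LinearAlgebra.SymplecticGroup
import Mathlib.Data.Matrix.Block

/-!
The group `(Q₈ × Q₈) : 2` inside the alternating group of degree 8 and inside `Sp₄(3)`.
-/

set_option autoImplicit false

namespace CfsgLib.LocalEven.SylowIso

open QuaternionGroup Matrix

/-- The quaternion group. -/
abbrev Qu := QuaternionGroup 2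

/-- The automorphism exchanging `i` and `j`. -/
def phiFun : Qu → Qu
  | .a i => if i = 1 then xa 0 else if i = 3 then xa 2 else a i
  | .xa i => if i = 0 then a 1 else if i = 2 then a 3 else if i = 1 then xa 3 else xa 1

theorem phiFun_mul : ∀ x y : Qu, phiFun (x * y) = phiFun x * phiFun y := by decide +kernel

theorem phiFun_phiFun : ∀ x : Qu, phiFun (phiFun x) = x := by decide +kernel

/-- The automorphism exchanging `i` and `j`. -/
def phi : Qu ≃* Qu where
  toFun := phiFun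
  invFun := phiFun
  left_inv := phiFun_phiFun
  right_inv := phiFun_phiFun
  map_mul' := phiFun_mul

/-- The exchange of the two factors, twisted by `phi`. -/
def swapAut : MulAut (Qu × Qu) where
  toFun p := (phiFun p.2, phiFun p.1)
  invFun p := (phiFun p.2, phiFun p.1)
  left_inv p := by simp [phiFun_phiFun]
  right_inv p := by simp [phiFun_phiFun]
  map_mul' p q := by simp [phiFun_mul]

theorem swapAut_sq : swapAut * swapAut = 1 := by
  refine MulEquiv.ext fun p => ?_
  show ((phiFun (phiFun p.1)), (phiFun (phiFun p.2))) = p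
  simp [phiFun_phiFun]

/-- `(Q₈ × Q₈) : 2`. -/
abbrev QW := InvExt (Qu × Qu) swapAut swapAut_sq

/-- The two-sided regular action of `Q₈ × Q₈`. -/
def biAct : Qu × Qu →* Equiv.Perm Qu where
  toFun p := (Equiv.mulLeft p.1).trans (Equiv.mulRight p.2⁻¹)
  map_one' := by ext x; simp
  map_mul' p q := by ext x; simp [mul_assoc]

/-- The permutation inducing the twisted exchange. -/
def biSwap : Equiv.Perm Qu where
  toFun x := phiFun x⁻¹
  invFun x := (phiFun x)⁻¹
  left_inv x := by simp [phiFun_phiFun]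
  right_inv x := by simp [phiFun_phiFun]

theorem biSwap_sq : biSwap * biSwap = 1 := by decide +kernel

theorem biSwap_conj : ∀ p : Qu × Qu, biAct (swapAut p) = biSwap * biAct p * biSwap := by
  decide +kernel

/-- The action on eight points. -/
def qwPerm : QW →* Equiv.Perm Qu := invLift swapAut swapAut_sq biAct biSwap biSwap_sq biSwap_conj

theorem qwPerm_ker_aux : ∀ (p : Qu × Qu) (c : Multiplicative (ZMod 2)),
    biAct p * (if c = 1 then 1 else biSwap) = 1 ↔
      c = 1 ∧ (p = (1, 1) ∨ p = (a 2, a 2)) := by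
  decide +kernel

theorem qwPerm_sign_aux : ∀ (p : Qu × Qu) (c : Multiplicative (ZMod 2)),
    Equiv.Perm.sign (biAct p * (if c = 1 then 1 else biSwap)) = 1 := by
  decide +kernel

/-- The action on eight points, in the alternating group. -/
def qwAlt : QW →* ↥(alternatingGroup Qu) :=
  qwPerm.codRestrict (alternatingGroup Qu) fun w =>
    Equiv.Perm.mem_alternatingGroup.2 (qwPerm_sign_aux w.left w.right)

theorem mem_qwAlt_ker (w : QW) : w ∈ qwAlt.ker ↔
    w.right = 1 ∧ (w.left = (1, 1) ∨ w.left = (a 2, a 2)) := by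
  rw [MonoidHom.mem_ker, Subtype.ext_iff]
  exact qwPerm_ker_aux w.left w.right

theorem card_qwAlt_ker : Nat.card ↥qwAlt.ker = 2 := by
  rw [Nat.card_eq_two_iff]
  refine ⟨⟨1, qwAlt.ker.one_mem⟩, ⟨⟨(a 2, a 2), 1⟩, (mem_qwAlt_ker _).2 ⟨rfl, Or.inr rfl⟩⟩, ?_, ?_⟩
  · intro h
    have h' : ((1 : QW)).left = ((a 2, a 2) : Qu × Qu) :=
      congrArg (fun z : ↥qwAlt.ker => (z : QW).left) h
    rw [SemidirectProduct.one_left] at h'
    exact absurd h' (by decide)
  · refine Set.eq_univ_of_forall fun w => ?_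
    obtain ⟨h1, h2⟩ := (mem_qwAlt_ker _).1 w.2
    rcases h2 with h2 | h2
    · exact Or.inl (Subtype.ext (SemidirectProduct.ext h2 h1))
    · exact Or.inr (Subtype.ext (SemidirectProduct.ext h2 h1))

theorem card_qw : Nat.card QW = 128 := by
  rw [SemidirectProduct.card, Nat.card_prod]
  simp [Nat.card_eq_fintype_card, QuaternionGroup.card]

/-- `Q₈` in `SL₂(3)`. -/
def qMat : Qu → Matrix (Fin 2) (Fin 2) (ZMod 3)
  | .a i => !![0, -1; 1, 0] ^ i.val
  | .xa i => !![1, 1; 1, -1] * !![0, -1; 1, 0] ^ i.val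

/-- Two plane matrices as a matrix on `Fin 2 ⊕ Fin 2`. -/
def planes (A B : Matrix (Fin 2) (Fin 2) (ZMod 3)) :
    Matrix (Fin 2 ⊕ Fin 2) (Fin 2 ⊕ Fin 2) (ZMod 3) :=
  fromBlocks !![A 0 0, 0; 0, B 0 0] !![A 0 1, 0; 0, B 0 1] !![A 1 0, 0; 0, B 1 0] !![A 1 1, 0; 0, B 1 1]

/-- The matrix of an element of `Q₈ × Q₈`. -/
def qqMat (p : Qu × Qu) : Matrix (Fin 2 ⊕ Fin 2) (Fin 2 ⊕ Fin 2) (ZMod 3) :=
  planes (qMat p.1) (qMat (phiFun p.2))

/-- The exchange of the two planes. -/
def planeSwap : Matrix (Fin 2 ⊕ Fin 2) (Fin 2 ⊕ Fin 2) (ZMod 3) :=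
  fromBlocks !![0, 1; 1, 0] 0 0 !![0, 1; 1, 0]

theorem qqMat_mem : ∀ p, qqMat p * Matrix.J (Fin 2) (ZMod 3) * (qqMat p)ᵀ = Matrix.J (Fin 2) (ZMod 3) := by
  decide +kernel

theorem planeSwap_mem : planeSwap * Matrix.J (Fin 2) (ZMod 3) * planeSwapᵀ = Matrix.J (Fin 2) (ZMod 3) := by
  decide +kernel

theorem qMat_mul : ∀ x y, qMat (x * y) = qMat x * qMat y := by decide +kernel

theorem qMat_one : qMat 1 = 1 := by decide +kernel

theorem planes_mul (A B A' B' : Matrix (Fin 2) (Fin 2) (ZMod 3)) :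
    planes A B * planes A' B' = planes (A * A') (B * B') := by
  ext i j
  rcases i with i | i <;> rcases j with j | j <;> fin_cases i <;> fin_cases j <;>
    simp [planes, Matrix.mul_apply, Fin.sum_univ_two]

theorem planes_one : planes 1 1 = 1 := by decide +kernel

/-- `Q₈ × Q₈` in `Sp₄(3)`. -/
def qqSp : Qu × Qu →* ↥(symplecticGroup (Fin 2) (ZMod 3)) where
  toFun p := ⟨qqMat p, SymplecticGroup.mem_iff.2 (qqMat_mem p)⟩
  map_one' := Subtype.ext (by
    show planes (qMat 1) (qMat (phiFun 1)) = 1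
    rw [show phiFun 1 = 1 by decide, qMat_one, planes_one])
  map_mul' p q := Subtype.ext (by
    show planes (qMat (p.1 * q.1)) (qMat (phiFun (p.2 * q.2))) = qqMat p * qqMat q
    rw [phiFun_mul, qMat_mul, qMat_mul, ← planes_mul]; rfl)

/-- The exchange in `Sp₄(3)`. -/
def swapSp : ↥(symplecticGroup (Fin 2) (ZMod 3)) :=
  ⟨planeSwap, SymplecticGroup.mem_iff.2 planeSwap_mem⟩

theorem swapSp_sq : swapSp * swapSp = 1 := Subtype.ext (by
  show planeSwap * planeSwap = 1
  decide +kernel)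

theorem swap_conj_mat : ∀ p : Qu × Qu, qqMat (phiFun p.2, phiFun p.1) = planeSwap * qqMat p * planeSwap := by
  decide +kernel

/-- The four-dimensional representation. -/
def qwSp : QW →* ↥(symplecticGroup (Fin 2) (ZMod 3)) :=
  invLift swapAut swapAut_sq qqSp swapSp swapSp_sq fun p => Subtype.ext (swap_conj_mat p)

theorem qwSp_center_aux : ∀ (p : Qu × Qu) (c : Multiplicative (ZMod 2)),
    (qqMat p * (if c = 1 then 1 else planeSwap) = 1 ∨ qqMat p * (if c = 1 then 1 else planeSwap) = -1) ↔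
      c = 1 ∧ (p = (1, 1) ∨ p = (a 2, a 2)) := by
  decide +kernel

theorem qwSp_coe (w : QW) : (qwSp w : Matrix (Fin 2 ⊕ Fin 2) (Fin 2 ⊕ Fin 2) (ZMod 3)) =
    qqMat w.left * (if w.right = 1 then 1 else planeSwap) := by
  rw [qwSp, invLift_apply]
  show qqMat w.left * ((if w.right = 1 then 1 else swapSp :
    ↥(symplecticGroup (Fin 2) (ZMod 3))) : Matrix (Fin 2 ⊕ Fin 2) (Fin 2 ⊕ Fin 2) (ZMod 3)) = _
  split_ifs <;> rfl

end CfsgLib.LocalEven.SylowIso
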